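import Cfsg.Agent.Lib.Lie.Mult.Unit.Three
import Cfsg.Agent.Lib.Lie.SLUniv.Basic
import Cfsg.Agent.Lib.Classical.WeilSU.Final

/-!
# The multiplier of the three dimensional unitary groups in characteristic two
-/

set_option autoImplicit false
set_option linter.style.haveILetI false

namespace CfsgLib.CentralNonab

open CfsgLib.Lie.Mult CfsgLib.Lie.Mult.Unit CfsgLib.SU
open CfsgLib.Lie

theorem psu_three_multiplier {F : Type} [Field F] [Fintype F] {n : ℕ} (hn : 2 ≤ n)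
    (hF : Fintype.card F = (2 ^ n) ^ 2) :
    Cfsg.HasCyclicSchurMultiplier (Cfsg.PSU 3 F (2 ^ n)) (Nat.gcd 3 (2 ^ n + 1)) := by
  classical
  obtain ⟨C⟩ := CfsgLib.Classical.uctx_exists hF
  haveI : Fact (Nat.Prime 2) := ⟨Nat.prime_two⟩
  haveI : Fact (Nat.Prime 3) := ⟨Nat.prime_three⟩
  have h4 : 4 ≤ 2 ^ n := Nat.pow_le_pow_right two_pos hn
  have hperf : commutator ↥(Cfsg.SU 3 F (2 ^ n)) = ⊤ :=
    CfsgLib.Classical.WeilSU.su_perfect hF le_rfl (fun h => by omega)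
  have hb : Orth.SBound ↥(Cfsg.SU 3 F (2 ^ n)) 1 := fun Γ _ _ σ hσ => by
    by_contra hlt
    obtain ⟨ℓ, hℓ, hd⟩ := Nat.exists_prime_and_dvd (n := Nat.card σ.ker) (by omega)
    haveI := Fact.mk hℓ
    exact nop_three (C := C) (p := 2) (a := n) rfl hF h4 Γ σ hσ hd
  have hid : Cfsg.IsStemExtension (MonoidHom.id ↥(Cfsg.SU 3 F (2 ^ n))) :=
    ⟨fun x => ⟨x, rfl⟩, by rw [MonoidHom.ker_id]; exact bot_le, by rw [MonoidHom.ker_id]; exact bot_le⟩
  have hst : Cfsg.IsStemExtension (QuotientGroup.mk' (Subgroup.center ↥(Cfsg.SU 3 F (2 ^ n)))) :=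
    ⟨QuotientGroup.mk'_surjective _, by rw [QuotientGroup.ker_mk'], by rw [hperf]; exact le_top⟩
  refine CfsgLib.Lie.SLUniv.hasSchurMultiplier_of_split hst (fun P _ _ π hπ hc =>
    Orth.exists_section_of_bound (MonoidHom.id _) hid hperf hb
      (by rw [MonoidHom.ker_id, Subgroup.card_bot]) P π hπ hc) ?_
  have hc := C.card_center_su (n := 3) hF le_rfl
  haveI : IsCyclic ↥(Subgroup.center ↥(Cfsg.SU 3 F (2 ^ n))) := by
    rcases (Nat.dvd_prime Nat.prime_three).1 (Nat.gcd_dvd_left 3 (2 ^ n + 1)) with h | h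
    · haveI : Subsingleton ↥(Subgroup.center ↥(Cfsg.SU 3 F (2 ^ n))) :=
        (Nat.card_eq_one_iff_unique.1 (hc.trans h)).1
      exact isCyclic_of_subsingleton
    · exact isCyclic_of_prime_card (hc.trans h)
  exact (MulEquiv.subgroupCongr (QuotientGroup.ker_mk' _)).trans
    ((zmodCyclicMulEquiv inferInstance).symm.trans (MulEquiv.cast (M := fun k => Multiplicative (ZMod k)) hc))

end CfsgLib.CentralNonab
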