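import Cfsg.Agent.Lib.Lie.Mult.Suzuki

/-!
# Central extensions of Suzuki groups in which lifted involutions are central in a Sylow subgroup

If every element of square one in the preimage of the translations centralizes that preimage, then its
derived group meets the kernel trivially, the field of eight elements included.
-/

set_option autoImplicit false

namespace CfsgLib.CentralNonab

open CfsgLib.Lie.Suz CfsgLib.Lie.Mult
open CfsgLib.Lie
open scoped commutatorElement MatrixGroups

variable {F : Type*} [Field F] [Fintype F] {m : ℕ}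

theorem suz_preimage_of_invol_central (hm : 1 ≤ m) (hF : Fintype.card F = 2 ^ (2 * m + 1)) {P : Type*} [Group P]
    {p : P →* Cfsg.Sz F m} (hp : Function.Surjective p) (hc : p.ker ≤ Subgroup.center P)
    (hinv : ∀ y, p y ∈ U hF → y * y = 1 → ∀ x, p x ∈ U hF → Commute x y)
    {z : P} (hz : z ∈ p.ker) (hz' : z ∈ ⁅(U hF).comap p, (U hF).comap p⁆) : z = 1 := by
  have hS := isSuzField hF
  have hq : 4 < Fintype.card F := by
    rw [hF]
    calc 4 < 2 ^ 3 := by norm_num
      _ ≤ _ := Nat.pow_le_pow_right (by norm_num) (by omega)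
  choose L hL using fun a b : F => hp (TS hF a b)
  choose H hH using fun k : Fˣ => hp (HS hF k)
  have tmul : ∀ a b a' b' : F, TS hF a b * TS hF a' b' = TS hF (a + a') (b + b' + th m a * a') :=
    fun a b a' b' => Subtype.ext (T_mul hS a b a' b')
  have tzero : TS hF (0 : F) 0 = 1 := Subtype.ext T_zero
  have tcentral : ∀ a b c : F, Commute (TS hF 0 c) (TS hF a b) := fun a b c =>
    Subtype.ext (T_zero_comm hS a b c)
  have tconj : ∀ (k : Fˣ) (a b : F),
      HS hF k * TS hF a b * (HS hF k)⁻¹ = TS hF ((k : F) * a) (nm m (k : F) * b) :=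
    fun k a b => H_conj_T hF k a b
  have hconj : ∀ (k : Fˣ) (a b : F),
      p (H k * L a b * (H k)⁻¹) = p (L ((k : F) * a) (nm m (k : F) * b)) := fun k a b => by
    rw [map_mul, map_mul, map_inv, hH, hL, hL, tconj]
  have cmul : ∀ {x : P} (y : P), x ∈ Subgroup.center P → y * x * y⁻¹ = x := fun y hx => by
    rw [Subgroup.mem_center_iff.1 hx y, mul_inv_cancel_right]
  -- the centre of the translations
  let f₀ : F → F → P := fun b b' => ⁅L 0 b, L 0 b'⁆
  have f₀cen : ∀ b b', f₀ b b' ∈ Subgroup.center P := fun b b' =>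
    SLUniv.comm_central hc (by rw [hL, hL]; exact tcentral _ _ _)
  have f₀R : ∀ b u u', f₀ b (u + u') = f₀ b u * f₀ b u' := fun b u u' => by
    calc f₀ b (u + u') = ⁅L 0 b, L 0 u * L 0 u'⁆ :=
          SLUniv.comm_congr hc rfl (by rw [map_mul, hL, hL, hL, tmul, zero_add, th_zero hS, zero_mul, add_zero])
      _ = f₀ b u * (L 0 u * f₀ b u' * (L 0 u)⁻¹) := by simp only [f₀, commutatorElement_def]; group
      _ = _ := by rw [cmul _ (f₀cen _ _)]
  have f₀L : ∀ b b' u, f₀ (b + b') u = f₀ b u * f₀ b' u := fun b b' u => by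
    have e : ∀ x y : F, f₀ x y = (f₀ y x)⁻¹ := fun x y => (commutatorElement_inv (L 0 y) (L 0 x)).symm
    rw [e, f₀R, mul_inv_rev, ← e, ← e, Subgroup.mem_center_iff.1 (f₀cen b u)]
  have h0 : ∀ b b', Commute (L 0 b) (L 0 b') := fun b b' => by
    refine commutatorElement_eq_one_iff_commute.1 (pairing_eq_one hq f₀cen f₀L f₀R ?_ b b')
    intro c hc' t u
    obtain ⟨k, hk⟩ := exists_kth_eq hF hc'
    rw [← cmul (H k) (f₀cen t u)]
    simp only [f₀]
    rw [conjugate_commutatorElement]
    exact (SLUniv.comm_congr hc (by rw [hconj, mul_zero, nm, hk]) (by rw [hconj, mul_zero, nm, hk])).symm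
  -- equivariant lifts of the centre
  obtain ⟨c₀, hc00, hc01⟩ : ∃ c : F, c ≠ 0 ∧ c ≠ 1 := by
    obtain ⟨x, hx⟩ := exists_eval_ne (f := (Polynomial.X * (Polynomial.X - 1) : Polynomial F))
      (mul_ne_zero Polynomial.X_ne_zero (Polynomial.X_sub_C_ne_zero 1))
      (lt_of_le_of_lt (by compute_degree!) (show 2 < Fintype.card F by omega))
    simp only [Polynomial.eval_mul, Polynomial.eval_sub, Polynomial.eval_X, Polynomial.eval_one,
      mul_ne_zero_iff, sub_ne_zero] at hx
    exact ⟨x, hx.1, hx.2⟩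
  obtain ⟨k₀, hk₀⟩ := exists_kth_eq hF hc00
  have hd : c₀ + 1 ≠ 0 := fun e => hc01 (by
    calc c₀ = c₀ + (1 + 1) := by rw [add_self hS, add_zero]
      _ = 1 := by rw [← add_assoc, e, zero_add])
  let Y : F → P := fun b => ⁅H k₀, L 0 (b / (c₀ + 1))⁆
  have hY : ∀ b, p (Y b) = TS hF 0 b := fun b => by
    rw [map_commutatorElement, hH, hL, commutatorElement_def, tconj, mul_zero, nm, hk₀,
      show (TS hF (0 : F) (b / (c₀ + 1)))⁻¹ = TS hF 0 (b / (c₀ + 1)) from
        Subtype.ext (by show (T m 0 _)⁻¹ = _; rw [T_inv hS, th_zero hS, zero_mul, add_zero]; rfl),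
      tmul, zero_add, th_zero hS, zero_mul, add_zero]
    congr 1
    field_simp
  have hYadd : ∀ b b', Y (b + b') = Y b * Y b' := fun b b' => by
    calc Y (b + b') = ⁅H k₀, L 0 (b / (c₀ + 1)) * L 0 (b' / (c₀ + 1))⁆ :=
          SLUniv.comm_congr hc rfl (by
            rw [map_mul, hL, hL, hL, tmul, zero_add, th_zero hS, zero_mul, add_zero, add_div])
      _ = Y b * (L 0 (b / (c₀ + 1)) * Y b' * (L 0 (b / (c₀ + 1)))⁻¹) := by
          simp only [Y, commutatorElement_def]; group
      _ = _ := by rw [(SLUniv.commute_congr hc (a' := L 0 (b / (c₀ + 1))) (b' := L 0 b') rfl (by rw [hY, hL]) (h0 _ _)).eq, mul_inv_cancel_right]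
  have hYsq : ∀ b, Y b * Y b = 1 := fun b => by
    rw [← hYadd, add_self hS]
    have hz0 := hYadd 0 0
    rw [add_zero] at hz0
    exact right_eq_mul.1 hz0
  have hYcomm : ∀ a b c : F, Commute (L a b) (Y c) := fun a b c =>
    hinv _ (by rw [hY]; exact ⟨0, c, rfl⟩) (hYsq c) _ (by rw [hL]; exact ⟨a, b, rfl⟩)
  have hYequi : ∀ (k : Fˣ) b, H k * Y b * (H k)⁻¹ = Y (nm m (k : F) * b) := fun k b => by
    simp only [Y]
    rw [conjugate_commutatorElement]
    refine SLUniv.comm_congr hc ?_ ?_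
    · rw [map_mul, map_mul, map_inv, hH, hH]
      have e : HS hF k * HS hF k₀ = HS hF k₀ * HS hF k := Subtype.ext (by
        show CfsgLib.Lie.Suz.H m k * CfsgLib.Lie.Suz.H m k₀ = CfsgLib.Lie.Suz.H m k₀ * CfsgLib.Lie.Suz.H m k
        rw [← H_mul, ← H_mul, mul_comm])
      rw [e, mul_inv_cancel_right]
    · rw [hconj, mul_zero, mul_div_assoc]
  -- commutators of translations
  let c1 : F → F → P := fun a a' => ⁅L a 0, L a' 0⁆
  let w : F → F → F := fun a a' => th m a * a' + th m a' * a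
  have hc1 : ∀ a a', p (c1 a a') = TS hF 0 (w a a') := fun a a' => by
    rw [map_commutatorElement, hL, hL, commutatorElement_def, mul_inv_eq_iff_eq_mul,
      mul_inv_eq_iff_eq_mul, tmul, tmul, tmul]
    simp only [w, th_zero hS, zero_mul, add_zero, zero_add]
    rw [add_comm a' a, add_assoc, add_self hS, add_zero]
  have c1R : ∀ a u u', c1 a (u + u') = c1 a u * c1 a u' := fun a u u' => by
    have e1 : p (L u 0 * L u' 0) = p (L (u + u') 0 * Y (th m u * u')) := by
      simp [map_mul, hL, hY, tmul]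
    have hcomm : ∀ a a' x y : F, Commute (L x y) (c1 a a') := fun a a' x y =>
      SLUniv.commute_congr hc rfl (b' := Y (w a a')) (by rw [hc1, hY]) (hYcomm _ _ _)
    calc c1 a (u + u') = ⁅L a 0, L (u + u') 0 * Y (th m u * u')⁆ := by
          rw [show ⁅L a 0, L (u + u') 0 * Y (th m u * u')⁆ =
            c1 a (u + u') * (L (u + u') 0 * ⁅L a 0, Y (th m u * u')⁆ * (L (u + u') 0)⁻¹) by
              simp only [c1, commutatorElement_def]; group,
            commutatorElement_eq_one_iff_commute.2 (hYcomm _ _ _), mul_one, mul_inv_cancel, mul_one]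
      _ = ⁅L a 0, L u 0 * L u' 0⁆ := SLUniv.comm_congr hc rfl e1.symm
      _ = c1 a u * (L u 0 * c1 a u' * (L u 0)⁻¹) := by simp only [c1, commutatorElement_def]; group
      _ = _ := by rw [(hcomm a u' u 0).eq, mul_inv_cancel_right]
  let ζ : F → F → P := fun a a' => c1 a a' * (Y (w a a'))⁻¹
  have ζcen : ∀ a a', ζ a a' ∈ Subgroup.center P := fun a a' =>
    hc (by rw [MonoidHom.mem_ker, map_mul, map_inv, hc1, hY, mul_inv_cancel])
  have ζR : ∀ a u u', ζ a (u + u') = ζ a u * ζ a u' := fun a u u' => by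
    have hw : w a (u + u') = w a u + w a u' := by simp only [w, th_add hS]; ring
    simp only [ζ]
    rw [c1R, hw, hYadd, mul_inv_rev]
    have hz := Subgroup.mem_center_iff.1 (ζcen a u') (Y (w a u))⁻¹
    simp only [ζ] at hz
    calc _ = c1 a u * (c1 a u' * (Y (w a u'))⁻¹ * (Y (w a u))⁻¹) := by group
      _ = _ := by rw [← hz]; group
  have ζanti : ∀ a a', ζ a a' = (ζ a' a)⁻¹ := fun a a' => by
    have hw : w a a' = w a' a := by simp only [w]; ring
    simp only [ζ]
    rw [hw, mul_inv_rev, inv_inv, show (c1 a' a)⁻¹ = c1 a a' from commutatorElement_inv _ _]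
    have hYinv : ∀ x, (Y x)⁻¹ = Y x := fun x => by
      rw [inv_eq_iff_mul_eq_one, ← hYadd, add_self hS]
      have hz0 := hYadd 0 0
      rw [add_zero] at hz0
      exact right_eq_mul.1 hz0
    rw [hYinv]
    exact (SLUniv.commute_congr hc (a' := Y (w a a')) (b' := Y (w a' a)) (by rw [hc1, hY])
      rfl (SLUniv.commute_congr hc (a' := L 0 (w a a')) (b' := L 0 (w a' a)) (by rw [hY, hL])
        (by rw [hY, hL]) (h0 _ _))).eq
  have ζL : ∀ a a' u, ζ (a + a') u = ζ a u * ζ a' u := fun a a' u => by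
    rw [ζanti, ζR, mul_inv_rev, ← ζanti, ← ζanti, Subgroup.mem_center_iff.1 (ζcen a u)]
  have ζone : ∀ a a', ζ a a' = 1 := by
    refine pairing_eq_one hq ζcen ζL ζR ?_
    intro c hc' t u
    have e1 : H (Units.mk0 c hc') * c1 t u * (H (Units.mk0 c hc'))⁻¹ = c1 (c * t) (c * u) := by
      simp only [c1]
      rw [conjugate_commutatorElement]
      exact SLUniv.comm_congr hc (by rw [hconj, Units.val_mk0, mul_zero])
        (by rw [hconj, Units.val_mk0, mul_zero])
    have hw : w (c * t) (c * u) = nm m c * w t u := by simp only [w, nm, th_mul hS]; ring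
    have e := cmul (H (Units.mk0 c hc')) (ζcen t u)
    simp only [ζ] at e ⊢
    rw [show H (Units.mk0 c hc') * (c1 t u * (Y (w t u))⁻¹) * (H (Units.mk0 c hc'))⁻¹ =
      H (Units.mk0 c hc') * c1 t u * (H (Units.mk0 c hc'))⁻¹ *
        (H (Units.mk0 c hc') * Y (w t u) * (H (Units.mk0 c hc'))⁻¹)⁻¹ by group, e1, hYequi,
      Units.val_mk0, ← hw] at e
    exact e
  -- conclusion
  let Yh : Multiplicative F →* P :=
    { toFun := fun x => Y x.toAdd
      map_one' := by
        have hz0 := hYadd 0 0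
        rw [add_zero] at hz0
        exact right_eq_mul.1 hz0
      map_mul' := fun x y => hYadd _ _ }
  have hle : ⁅(U hF).comap p, (U hF).comap p⁆ ≤ Yh.range := by
    rw [Subgroup.commutator_le]
    intro g hg g' hg'
    obtain ⟨a, b, hab⟩ := hg
    obtain ⟨a', b', hab'⟩ := hg'
    have e : ∀ a b : F, ∀ g : P, (p g : SL(4, F)) = T m a b → p g = p (L a 0 * L 0 b) := fun a b g h => by
      rw [map_mul, hL, hL, tmul, add_zero, zero_add, mul_zero, add_zero]
      exact Subtype.ext h
    rw [SLUniv.comm_congr hc ((e a b g hab).trans (show p (L a 0 * L 0 b) = p (L a 0 * Y b) by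
        rw [map_mul, map_mul, hY, hL, hL]))
      ((e a' b' g' hab').trans (show p (L a' 0 * L 0 b') = p (L a' 0 * Y b') by
        rw [map_mul, map_mul, hY, hL, hL]))]
    have e2 : ⁅L a 0 * Y b, L a' 0 * Y b'⁆ = ⁅L a 0, L a' 0⁆ := by
      have k1 : Commute (Y b) (L a' 0 * Y b') := ((hYcomm _ _ _).symm.mul_right
        (SLUniv.commute_congr hc (a' := L 0 b) (b' := L 0 b') (by rw [hY, hL]) (by rw [hY, hL]) (h0 _ _)))
      calc ⁅L a 0 * Y b, L a' 0 * Y b'⁆
          = L a 0 * ⁅Y b, L a' 0 * Y b'⁆ * (L a 0)⁻¹ * ⁅L a 0, L a' 0 * Y b'⁆ := by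
            simp only [commutatorElement_def]; group
        _ = ⁅L a 0, L a' 0 * Y b'⁆ := by
            rw [commutatorElement_eq_one_iff_commute.2 k1, mul_one, mul_inv_cancel, one_mul]
        _ = ⁅L a 0, L a' 0⁆ * (L a' 0 * ⁅L a 0, Y b'⁆ * (L a' 0)⁻¹) := by
            simp only [commutatorElement_def]; group
        _ = _ := by
            rw [commutatorElement_eq_one_iff_commute.2 (hYcomm _ _ _), mul_one, mul_inv_cancel, mul_one]
    rw [e2]
    exact ⟨Multiplicative.ofAdd (w a a'), (mul_inv_eq_one.1 (ζone a a')).symm⟩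
  obtain ⟨x, hx⟩ := hle hz'
  have hxY : Y x.toAdd = z := hx
  rw [← hxY, MonoidHom.mem_ker, hY, ← tzero] at hz
  have := TS_injective hF (a₁ := ((0 : F), x.toAdd)) (a₂ := (0, 0)) hz
  rw [← hxY, show x.toAdd = 0 from (Prod.ext_iff.1 this).2]
  exact Yh.map_one

end CfsgLib.CentralNonab
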