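import Cfsg.Agent.Lib.PGroup.StemExtension
import Cfsg.Agent.Lib.Coprime.UniqueOrderP
import Mathlib.GroupTheory.SpecificGroups.Quaternion

/-!
# Central extensions of metacyclic two-groups have cyclic derived groups
-/

set_option autoImplicit false
set_option linter.style.haveILetI false

open Subgroup
open scoped commutatorElement

namespace CfsgLib.CentralNonab

universe u v

/-- The group is generated by `a`, `b` with `⁅b, a⁆` a power of `a`. -/
def MetaGen (P : Type v) [Group P] : Prop :=
  ∃ a b : P, closure ({a, b} : Set P) = ⊤ ∧ ⁅b, a⁆ ∈ zpowers a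

theorem metaGen_congr {P : Type u} {Q : Type v} [Group P] [Group Q] (e : P ≃* Q) (h : MetaGen P) : MetaGen Q := by
  obtain ⟨a, b, hab, hc⟩ := h
  refine ⟨e a, e b, ?_, ?_⟩
  · have := congrArg (Subgroup.map e.toMonoidHom) hab
    rwa [MonoidHom.map_closure, Set.image_pair, map_top_of_surjective _ e.surjective] at this
  · obtain ⟨k, hk⟩ := mem_zpowers_iff.1 hc
    exact mem_zpowers_iff.2 ⟨k, by rw [← map_zpow, hk]; exact map_commutatorElement e.toMonoidHom b a⟩

theorem metaGen_of_unique {P : Type v} [Group P] [Finite P] (hP : IsPGroup 2 P)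
    (hu : CfsgLib.Coprime.UniqueOrderP 2 P) : MetaGen P := by
  rcases CfsgLib.Coprime.cyclic_or_quaternion_of_unique_two hP hu with hc | ⟨n, ⟨e⟩⟩
  · obtain ⟨g, hg⟩ := hc.exists_generator
    refine ⟨g, 1, eq_top_iff.2 fun x _ => ?_, by simp⟩
    obtain ⟨k, hk⟩ := mem_zpowers_iff.1 (hg x)
    exact hk ▸ zpow_mem (subset_closure (by simp)) k
  · refine metaGen_congr e.symm ?_
    have ha : ∀ i : ZMod (2 * 2 ^ n), QuaternionGroup.a i ∈ zpowers (QuaternionGroup.a (n := 2 ^ n) 1) :=
      fun i => by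
        refine mem_zpowers_iff.2 ⟨(i.val : ℤ), ?_⟩
        rw [zpow_natCast, QuaternionGroup.a_one_pow, ZMod.natCast_zmod_val]
    refine ⟨QuaternionGroup.a 1, QuaternionGroup.xa 0, eq_top_iff.2 fun x _ => ?_, ?_⟩
    · have hmem : ∀ i, QuaternionGroup.a i ∈ closure
          ({QuaternionGroup.a 1, QuaternionGroup.xa 0} : Set (QuaternionGroup (2 ^ n))) := fun i =>
        (zpowers_le.2 (subset_closure (by simp))) (ha i)
      rcases x with i | i
      · exact hmem i
      · have := mul_mem (subset_closure (k := {QuaternionGroup.a (n := 2 ^ n) 1, QuaternionGroup.xa 0})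
          (Set.mem_insert_of_mem _ rfl)) (hmem i)
        rwa [QuaternionGroup.xa_mul_a, zero_add] at this
    · have : ∃ i, ⁅QuaternionGroup.xa (n := 2 ^ n) 0, QuaternionGroup.a 1⁆ = QuaternionGroup.a i :=
        ⟨_, by rw [commutatorElement_def]; rfl⟩
      obtain ⟨i, hi⟩ := this
      rw [hi]
      exact ha i

theorem metaGen_of_card_four {P : Type v} [Group P] [Finite P] (h : Nat.card P = 4) : MetaGen P := by
  haveI : Fact (Nat.Prime 2) := ⟨Nat.prime_two⟩
  have hc : IsMulCommutative P := IsPGroup.isMulCommutative_of_card_eq_prime_sq (p := 2) (by rw [h]; rfl)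
  haveI : Nontrivial P := Finite.one_lt_card_iff_nontrivial.1 (by omega)
  obtain ⟨a, ha⟩ := exists_ne (1 : P)
  have hcomm : ∀ b, ⁅b, a⁆ ∈ zpowers a := fun b => by
    rw [commutatorElement_eq_one_iff_mul_comm.2 (hc.is_comm.comm b a)]; exact one_mem _
  by_cases htop : zpowers a = ⊤
  · exact ⟨a, 1, eq_top_iff.2 (htop.ge.trans (zpowers_le.2 (subset_closure (by simp)))), hcomm 1⟩
  obtain ⟨b, -, hb⟩ := SetLike.exists_of_lt (lt_top_iff_ne_top.2 htop)
  refine ⟨a, b, ?_, hcomm b⟩
  set H := closure ({a, b} : Set P)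
  have h1 : zpowers a < H := lt_of_le_of_ne (zpowers_le.2 (subset_closure (by simp)))
    fun e => hb (e ▸ subset_closure (by simp))
  refine Subgroup.eq_top_of_card_eq _ ?_
  have hlt : Nat.card (zpowers a) < Nat.card H := lt_of_le_of_ne (card_le_of_le h1.le)
    fun e => h1.ne (eq_of_le_of_card_ge h1.le e.ge)
  have h2 : 2 ≤ Nat.card (zpowers a) := by
    haveI : Nontrivial (zpowers a) := (nontrivial_iff_ne_bot _).2 (by simpa using ha)
    exact Finite.one_lt_card
  have h3 := H.card_subgroup_dvd_card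
  have h4 := Nat.le_of_dvd (by omega) h3
  rw [h] at h3 h4 ⊢
  interval_cases hH : Nat.card H <;> omega

/-- A central extension of a metacyclic group has cyclic derived group. -/
theorem isCyclic_commutator {R : Type u} [Group R] [Finite R] {P : Type v} [Group P] (π : R →* P)
    (hπ : Function.Surjective π) (hk : π.ker ≤ center R) (hP : MetaGen P) :
    IsCyclic (commutator R) := by
  obtain ⟨a', b', hgen, hc'⟩ := hP
  obtain ⟨a, rfl⟩ := hπ a'
  obtain ⟨b, rfl⟩ := hπ b'
  have hsup : closure ({a, b} : Set R) ⊔ center R = ⊤ := by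
    refine top_le_iff.1 (le_trans ?_ (sup_le_sup_left hk _))
    rw [← comap_map_eq, MonoidHom.map_closure, Set.image_pair, hgen, comap_top]
  rw [CfsgLib.Schur.commutator_eq_of_sup_center hsup]
  set c := ⁅b, a⁆ with hc
  obtain ⟨k, hk'⟩ := mem_zpowers_iff.1 hc'
  obtain ⟨d, hd, hcd⟩ : ∃ d ∈ center R, c = a ^ k * d :=
    ⟨(a ^ k)⁻¹ * c, hk (by rw [MonoidHom.mem_ker, map_mul, map_inv, map_zpow, hk', hc,
      map_commutatorElement, inv_mul_cancel]), by rw [mul_inv_cancel_left]⟩
  have hdc : ∀ w, d * w = w * d := fun w => (mem_center_iff.1 hd w).symm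
  have hac : Commute a c := by
    rw [hcd]
    exact ((Commute.refl a).zpow_right k).mul_right (hdc a).symm
  have hb : b * c * b⁻¹ = c ^ (k + 1) := by
    have e1 : b * a * b⁻¹ = c * a := by rw [hc, commutatorElement_def, inv_mul_cancel_right]
    calc b * c * b⁻¹ = b * (a ^ k * d) * b⁻¹ := by rw [← hcd]
      _ = (b * a * b⁻¹) ^ k * (b * (d * b⁻¹)) := by rw [conj_zpow]; group
      _ = c ^ k * (a ^ k * d) := by rw [e1, hac.symm.mul_zpow, hdc, mul_inv_cancel_left]; group
      _ = c ^ (k + 1) := by rw [← hcd, zpow_add_one]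
  let N : Subgroup R := zpowers c
  have hle : closure ({a, b} : Set R) ≤ normalizer (N : Set R) := by
    have hmem : ∀ g, g * c * g⁻¹ ∈ N → g ∈ normalizer (N : Set R) := fun g hg => by
      refine mem_normalizer_iff_map_conj_eq.2 (eq_of_le_of_card_ge ?_
        (card_map_of_injective (MulAut.conj g).injective).ge)
      rintro _ ⟨x, hx, rfl⟩
      obtain ⟨i, rfl⟩ := mem_zpowers_iff.1 hx
      show g * c ^ i * g⁻¹ ∈ N
      rw [← conj_zpow]
      exact zpow_mem hg i
    refine (closure_le _).2 ?_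
    rintro g (rfl | rfl)
    · exact hmem _ (by rw [hac.eq, mul_inv_cancel_right]; exact mem_zpowers c)
    · exact hmem _ (hb ▸ zpow_mem (mem_zpowers c) _)
  have hsub : ⁅closure ({a, b} : Set R), closure ({a, b} : Set R)⁆ ≤ N :=
    CfsgLib.Schur.commutator_closure_pair_le (fun g hg x hx => (mem_normalizer_iff.1 (hle hg) x).1 hx)
      (by rw [← commutatorElement_inv]; exact inv_mem (mem_zpowers c))
  exact isCyclic_of_injective (Subgroup.inclusion hsub) (Subgroup.inclusion_injective hsub)

end CfsgLib.CentralNonab
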