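import Cfsg.Agent.Lib.Invol.CentralNonab.Basic
import Cfsg.Agent.Lib.Invol.CentralNonab.Meta
import Cfsg.Agent.Lib.Invol.CentralNonab.Suz
import Cfsg.Agent.S3184
import Cfsg.Agent.S2086
import Cfsg.Agent.Lib.Invol.CentralNonab.PsuMult
import Cfsg.Agent.Lib.Bender.Suzuki.Classified
import Cfsg.Agent.Lib.Invol.IntrinsicSL.Basic
import Cfsg.Agent.Lib.Invol.TwoClasses
import Cfsg.Agent.Lib.LocalStructure.Basic
import Cfsg.Agent.Lib.Classical.PSUSimple
import Cfsg.Agent.Lib.PushUpTwo.SLFacts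
import Cfsg.Agent.Lib.SU.InvolCentThree.Models
import Mathlib.Algebra.Group.Shrink
import Mathlib.Logic.Small.Basic

/-!
# Central Sylow `2`-intersections in a simple group with nonabelian Sylow `2`-subgroups

The derived group of a Sylow `2`-subgroup `S` meets every other Sylow `2`-subgroup trivially: in the
centralizer of a maximal intersection `D` modulo the core of `N(S)` the image of `N(S)` is strongly
embedded, and the component has a multiplier of odd order or is a Suzuki group.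
-/

set_option autoImplicit false
set_option linter.style.haveILetI false
set_option linter.unusedSectionVars false

open Subgroup
open scoped commutatorElement

namespace CfsgLib.CentralNonab

open CfsgLib.Invol

universe u

variable {G : Type u} [Group G] [Finite G]

/-- The derived group of a Sylow subgroup is not cyclic. -/
theorem false_of_cyclic_commutator (hCI : CI G) [IsSimpleGroup G] (hna : ¬ IsMulCommutative G)
    (S : Sylow 2 G) (hS : ¬ IsMulCommutative (S : Subgroup G))
    (hc : IsCyclic (commutator (S : Subgroup G))) : False := by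
  haveI : Fact (Nat.Prime 2) := ⟨Nat.prime_two⟩
  have hne : commutator (S : Subgroup G) ≠ ⊥ := fun e => hS (isMulCommutative_iff.2 fun a b =>
    commutatorElement_eq_one_iff_mul_comm.1 (mem_bot.1 (e ▸ commutator_mem_commutator (mem_top a) (mem_top b))))
  have hch : (commutator (S : Subgroup G)).Characteristic := inferInstance
  obtain ⟨k, hk0, hk⟩ := (S.2.to_subgroup (commutator (S : Subgroup G))).nontrivial_iff_card.1
    ((nontrivial_iff_ne_bot _).2 hne)
  obtain ⟨c, hcm, hc2⟩ := exists_invol_mem (H := commutator (S : Subgroup G))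
    (by rw [hk]; exact Nat.even_pow.2 ⟨even_two, hk0.ne'⟩)
  have h := Cfsg.Agent.S3184.result hCI S _ hne hc hch c hcm hc2
  have hodd := CfsgLib.Coprime.pPrimeCore_not_dvd (G := G) Nat.prime_two
  have hO : Cfsg.oddCore G = ⊥ := by
    haveI := CfsgLib.Coprime.pPrimeCore_characteristic (G := G) 2
    refine (inferInstance : (Cfsg.pPrimeCore 2 G).Normal).eq_bot_or_eq_top.resolve_right fun e => ?_
    rw [e, card_top] at hodd
    exact hodd (CfsgLib.CIT.two_dvd_card_of_simple hna)
  have hz : (c : G) ∈ center G := mem_center_iff.2 fun g => by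
    have h1 := QuotientGroup.eq.1 (h g)
    rw [hO, mem_bot, inv_mul_eq_one] at h1
    exact mul_inv_eq_iff_eq_mul.1 h1
  rcases (inferInstance : (center G).Normal).eq_bot_or_eq_top with e | e
  · rw [e, mem_bot] at hz
    exact invol_ne_one hc2 (Subtype.ext hz)
  · exact hna (isMulCommutative_iff.2 fun a b => mem_center_iff.1 (e ▸ mem_top b) a)

/-- A kernel element of a stem extension of a group with odd cyclic multiplier has odd order. -/
theorem eq_one_of_multiplier {Γ : Type u} [Group Γ] [Finite Γ] {L : Type} [Group L] {n : ℕ}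
    (hn : Odd n) (hM : Cfsg.HasCyclicSchurMultiplier L n) (σ : Γ →* L) (hσ : Cfsg.IsStemExtension σ)
    {x : Γ} (hx : x ∈ σ.ker) {k : ℕ} (hk : x ^ 2 ^ k = 1) : x = 1 := by
  let ε : Shrink.{0} Γ ≃* Γ := Shrink.mulEquiv
  have hker : ∀ a, a ∈ (σ.comp ε.toMonoidHom).ker ↔ ε a ∈ σ.ker := fun a => Iff.rfl
  obtain ⟨φ, hφ⟩ := hM.2 (Shrink.{0} Γ) (σ.comp ε.toMonoidHom) ⟨hσ.1.comp ε.surjective,
    fun a ha => mem_center_iff.2 fun b => ε.injective (by
      rw [map_mul, map_mul]; exact mem_center_iff.1 (hσ.2.1 ((hker a).1 ha)) _),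
    fun a ha => by
      have h := mem_map_of_mem ε.symm.toMonoidHom (hσ.2.2 ((hker a).1 ha))
      rw [_root_.commutator_def, map_commutator] at h
      rw [show a = ε.symm.toMonoidHom (ε a) from (ε.symm_apply_apply a).symm]
      exact commutator_mono le_top le_top h⟩
  obtain ⟨a, ha⟩ := hφ ⟨ε.symm x, (hker _).2 (by rw [MulEquiv.apply_symm_apply]; exact hx)⟩
  have ha' : ε (φ a).1 = x := by rw [ha, MulEquiv.apply_symm_apply]
  have hxn : x ^ n = 1 := by
    have hz : a ^ n = 1 := by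
      apply Multiplicative.toAdd.injective
      rw [toAdd_pow, toAdd_one, nsmul_eq_mul, ZMod.natCast_self, zero_mul]
    rw [← ha', ← map_pow, ← SubmonoidClass.coe_pow, ← map_pow, hz, map_one, OneMemClass.coe_one, map_one]
  exact eq_one_of_odd_of_pow_two (hn.of_dvd_nat (orderOf_dvd_of_pow_eq_one hxn)) hk

/-- `S' ⊓ T` is trivial for `T ≠ S`. -/
theorem inter_commutator (hCI : CI G) [IsSimpleGroup G] (hna : ¬ IsMulCommutative G) (S : Sylow 2 G)
    (hS : ¬ IsMulCommutative (S : Subgroup G)) {T : Sylow 2 G} (hne : T ≠ S) {u : G}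
    (huT : u ∈ (T : Subgroup G)) (hu : u ∈ ⁅(S : Subgroup G), (S : Subgroup G)⁆) : u = 1 := by
  classical
  haveI : Fact (Nat.Prime 2) := ⟨Nat.prime_two⟩
  have huS : u ∈ (S : Subgroup G) := commutator_le_self _ hu
  by_contra hu1
  haveI := Fintype.ofFinite (Sylow 2 G)
  obtain ⟨T₀, hT₀, hmax⟩ := Finset.exists_max_image
    (Finset.univ.filter fun U : Sylow 2 G => U ≠ S ∧ u ∈ (U : Subgroup G))
    (fun U => Nat.card ↥((S : Subgroup G) ⊓ (U : Subgroup G))) ⟨T, by simp [hne, huT]⟩
  simp only [Finset.mem_filter, Finset.mem_univ, true_and] at hT₀ hmax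
  clear huT hne T
  obtain ⟨hne, huT⟩ := hT₀
  set D := (S : Subgroup G) ⊓ (T₀ : Subgroup G) with hD
  set X := centralizer (D : Set G) with hX
  have hSX : (S : Subgroup G) ≤ X := fun s hs => mem_centralizer_iff.2 fun d hd =>
    (inter_comm hCI hne hd.1 hd.2 s hs).symm
  have hTX : (T₀ : Subgroup G) ≤ X := fun t ht => mem_centralizer_iff.2 fun d hd =>
    (inter_comm hCI hne.symm hd.2 hd.1 t ht).symm
  have hsm : ∀ g x : G, x ∈ ((g • S : Sylow 2 G) : Subgroup G) ↔ g⁻¹ * x * g ∈ (S : Subgroup G) := by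
    intro g x
    rw [Sylow.coe_subgroup_smul, mem_pointwise_smul_iff_inv_smul_mem]
    simp [MulAut.smul_def]
  -- the intersections in `X` equal `D`
  have hti : ∀ g ∈ X, g ∉ normalizer ((S : Subgroup G) : Set G) → ∀ x ∈ (S : Subgroup G),
      g⁻¹ * x * g ∈ (S : Subgroup G) → x ∈ D := by
    intro g hg hgN x hxS hgx
    have hle : D ≤ (S : Subgroup G) ⊓ ((g • S : Sylow 2 G) : Subgroup G) := fun d hd => ⟨hd.1, (hsm g d).2 (by
      rw [mul_assoc, mem_centralizer_iff.1 hg d hd, inv_mul_cancel_left]; exact hd.1)⟩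
    rw [eq_of_le_of_card_ge hle (hmax _ ⟨fun e => hgN (Sylow.smul_eq_iff_mem_normalizer.1 e),
      (hle ⟨huS, huT⟩).2⟩)]
    exact ⟨hxS, (hsm g x).2 hgx⟩
  obtain ⟨g₀, hg₀⟩ := MulAction.exists_smul_eq ↥X (S.subtype hSX) (T₀.subtype hTX)
  rw [Sylow.smul_subtype] at hg₀
  have hg₀' : (g₀ : G) • S = T₀ := Sylow.subtype_injective hg₀
  have hg₀N : (g₀ : G) ∉ normalizer ((S : Subgroup G) : Set G) := fun h =>
    hne (by rw [← hg₀']; exact Sylow.smul_eq_iff_mem_normalizer.2 h)
  set N : Subgroup X := (normalizer ((S : Subgroup G) : Set G)).subgroupOf X with hN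
  set M := N.normalCore with hMdef
  set π := QuotientGroup.mk' M with hπ
  set SX : Subgroup X := (S : Subgroup G).subgroupOf X with hSXdef
  have hSN : SX ≤ N := fun x hx => le_normalizer hx
  have two : ∀ x : G, x ∈ (S : Subgroup G) → ∃ k, x ^ 2 ^ k = 1 := fun x hx => by
    obtain ⟨k, hk⟩ := S.2 ⟨x, hx⟩
    exact ⟨k, congrArg Subtype.val hk⟩
  have hMD : ∀ x ∈ M, (x : G) ∈ (S : Subgroup G) → (x : G) ∈ D := fun x hx hxS => by
    have h := N.normalCore_le ((inferInstance : M.Normal).conj_mem x hx g₀⁻¹)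
    obtain ⟨k, hk⟩ := two _ hxS
    refine hti g₀ g₀.2 hg₀N _ hxS (CfsgLib.CentInt.mem_sylow_of_normalizer (k := k) ?_ ?_)
    · simpa [hN, mem_subgroupOf, mul_assoc] using h
    · rw [show (g₀ : G)⁻¹ * x * g₀ = (g₀ : G)⁻¹ * x * (g₀ : G)⁻¹⁻¹ by rw [inv_inv], conj_pow, hk]
      group
  have hDM : ∀ x : X, (x : G) ∈ D → x ∈ M := fun x hx b => by
    rw [show b * x * b⁻¹ = x from Subtype.ext (by
      show (b : G) * x * (b : G)⁻¹ = x
      rw [← mem_centralizer_iff.1 b.2 x hx, mul_inv_cancel_right])]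
    exact (le_normalizer hx.1 : (x : G) ∈ normalizer ((S : Subgroup G) : Set G))
  -- the core centralizes `S`
  have hMS : ∀ x ∈ M, ∀ s : X, s ∈ SX → Commute (x : G) (s : G) := by
    intro x hx s hs
    set c : G := (x : G) * s * (x : G)⁻¹ * (s : G)⁻¹ with hc
    have hcS : c ∈ (S : Subgroup G) :=
      mul_mem ((mem_normalizer_iff.1 (N.normalCore_le hx) _).1 hs) (inv_mem hs)
    have ec : ((x * (s * x⁻¹ * s⁻¹) : X) : G) = c := by simp [hc, mul_assoc]
    have hcD : c ∈ D := ec ▸ hMD _ (mul_mem hx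
      ((inferInstance : M.Normal).conj_mem _ (inv_mem hx) s)) (ec.symm ▸ hcS)
    have hcx : ∀ y : X, Commute c y := fun y => mem_centralizer_iff.1 y.2 c hcD
    have hpow : ∀ j : ℕ, (x : G) ^ j * s * ((x : G) ^ j)⁻¹ = c ^ j * s := by
      intro j
      induction j with
      | zero => simp
      | succ j ih =>
        calc (x : G) ^ (j + 1) * s * ((x : G) ^ (j + 1))⁻¹
            = (x : G) * ((x : G) ^ j * s * ((x : G) ^ j)⁻¹) * (x : G)⁻¹ := by rw [pow_succ']; group
          _ = ((x : G) * c ^ j) * s * (x : G)⁻¹ := by rw [ih]; group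
          _ = c ^ j * ((x : G) * s * (x : G)⁻¹) := by rw [((hcx x).pow_left j).symm.eq]; group
          _ = c ^ j * (c * s) := by rw [hc, inv_mul_cancel_right]
          _ = c ^ (j + 1) * s := by rw [pow_succ, mul_assoc (c ^ j) c]
    obtain ⟨m, hm, l, hl⟩ := CfsgLib.Invol.IntrinsicSL.exists_odd_pow_twoEl (x : G)
    have hmD : (x : G) ^ m ∈ D := hMD (x ^ m) (pow_mem hx m)
      (CfsgLib.CentInt.mem_sylow_of_normalizer (k := l) (pow_mem (N.normalCore_le hx : (x : G) ∈ _) m) hl)
    have h1 : c ^ m = 1 := by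
      have h := hpow m
      rw [mem_centralizer_iff.1 s.2 _ hmD, mul_inv_cancel_right] at h
      exact right_eq_mul.1 h
    obtain ⟨k, hk⟩ := two c hcS
    have hc1 := eq_one_of_odd_of_pow_two (hm.of_dvd_nat (orderOf_dvd_of_pow_eq_one h1)) hk
    exact mul_inv_eq_iff_eq_mul.1 (mul_inv_eq_one.1 hc1)
  -- the quotient
  set H := N.map π with hH
  have hcomap : H.comap π = N := by
    rw [hH, comap_map_eq, QuotientGroup.ker_mk', sup_eq_left]
    exact N.normalCore_le
  have hmemH : ∀ x : X, π x ∈ H ↔ x ∈ N := fun x => by rw [← mem_comap, hcomap]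
  let φ : ↥(S : Subgroup G) →* X ⧸ M := π.comp (Subgroup.inclusion hSX)
  have hφk : φ.ker ≤ center ↥(S : Subgroup G) := fun s hs => mem_center_iff.2 fun t => Subtype.ext
    (inter_comm hCI hne s.2 (hMD _ ((QuotientGroup.eq_one_iff _).1 hs) s.2).2 t t.2)
  have hnocyc : ¬ MetaGen φ.range := fun h => false_of_cyclic_commutator hCI hna S hS
    (isCyclic_commutator φ.rangeRestrict φ.rangeRestrict_surjective
      (by rw [MonoidHom.ker_rangeRestrict]; exact hφk) h)
  have hP2 : IsPGroup 2 φ.range := S.2.of_surjective _ φ.rangeRestrict_surjective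
  obtain ⟨t, t', ht, ht', htt, htc⟩ : ∃ t t' : φ.range, orderOf t = 2 ∧ orderOf t' = 2 ∧ t ≠ t' ∧ Commute t t' := by
    by_contra hno
    push Not at hno
    refine hnocyc (metaGen_of_unique hP2 fun a b ha hb ha1 => ?_)
    by_contra hba
    have hao : orderOf a = 2 := invol_iff.2 ⟨by rw [← pow_two, ha], ha1⟩
    have hb1 : b ≠ 1 := fun e => hba (e ▸ one_mem _)
    have hbo : orderOf b = 2 := invol_iff.2 ⟨by rw [← pow_two, hb], hb1⟩
    haveI : Nontrivial φ.range := ⟨a, 1, ha1⟩
    haveI := hP2.center_nontrivial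
    obtain ⟨k, hk0, hk⟩ := (hP2.to_subgroup (center φ.range)).nontrivial_iff_card.1 inferInstance
    obtain ⟨c, hc, hco⟩ := exists_invol_mem (H := center φ.range)
      (by rw [hk]; exact Nat.even_pow.2 ⟨even_two, hk0.ne'⟩)
    rcases ne_or_eq c a with h | h
    · exact hno c a hco hao h (mem_center_iff.1 hc a).symm
    · exact hno c b hco hbo (fun e => hba (by rw [← e, h]; exact mem_zpowers a)) (mem_center_iff.1 hc b).symm
  have hpair : CfsgLib.Bender.HasPair (X ⧸ M) :=
    ⟨t, t', by rw [Subgroup.orderOf_coe, ht], by rw [Subgroup.orderOf_coe, ht'], fun e => htt (Subtype.ext e),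
      congrArg Subtype.val htc.eq⟩
  have hSE : Cfsg.IsStronglyEmbedded H := by
    refine ⟨fun e => hg₀N ((hmemH g₀).1 (e ▸ mem_top _)), ?_, fun y hy => ?_⟩
    · obtain ⟨s, hs⟩ := t.2
      have htH : (t : X ⧸ M) ∈ H := hs ▸ mem_map_of_mem π (hSN s.2)
      have := orderOf_dvd_natCard (⟨t, htH⟩ : H)
      rw [Subgroup.orderOf_mk, Subgroup.orderOf_coe, ht] at this
      exact even_iff_two_dvd.2 this
    · rw [← Nat.not_even_iff_odd]
      intro hev
      obtain ⟨w, ⟨hw1, hw2⟩, hwo⟩ := exists_invol_mem hev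
      obtain ⟨g, rfl⟩ := QuotientGroup.mk'_surjective M y
      obtain ⟨x, hx, rfl⟩ := hw1
      obtain ⟨m, hm, l, hl⟩ := CfsgLib.Invol.IntrinsicSL.exists_odd_pow_twoEl (x : G)
      have hxm : π (x ^ m) = π x := by
        rw [map_pow]; exact CfsgLib.Invol.IntrinsicSL.sq_pow_odd (invol_mul_self hwo) hm
      have hxN : g⁻¹ * x * g ∈ N := by
        obtain ⟨v, hv, hve⟩ := hw2
        rw [← hmemH, map_mul, map_mul, map_inv]
        have : (π g)⁻¹ * π x * π g = v := by
          rw [← hve]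
          show (π g)⁻¹ * (π g * v * (π g)⁻¹) * π g = v
          group
        rwa [this]
      have h1 : ((x : G) ^ m) ∈ (S : Subgroup G) :=
        CfsgLib.CentInt.mem_sylow_of_normalizer (k := l) (pow_mem (show (x : G) ∈ _ from hx) m) hl
      have h2 : (g : G)⁻¹ * (x : G) ^ m * g ∈ (S : Subgroup G) := by
        have hin : ((g : G)⁻¹ * (x : G) * g) ^ m = (g : G)⁻¹ * (x : G) ^ m * g := by
          simpa using conj_pow (i := m) (a := (g : G)⁻¹) (b := (x : G))
        refine CfsgLib.CentInt.mem_sylow_of_normalizer (k := l) (hin ▸ pow_mem (show (g : G)⁻¹ * x * g ∈ _ from hxN) m) ?_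
        rw [show (g : G)⁻¹ * (x : G) ^ m * g = (g : G)⁻¹ * (x : G) ^ m * (g : G)⁻¹⁻¹ by rw [inv_inv], conj_pow, hl]
        group
      have hD' := hti g g.2 (fun h => hy ((hmemH g).2 h)) _ h1 h2
      refine invol_ne_one hwo (hxm.symm.trans ((QuotientGroup.eq_one_iff _).2 (hDM _ ?_)))
      rw [SubmonoidClass.coe_pow]
      exact hD'
  have hcore : H.normalCore = ⊥ := by
    haveI : (H.normalCore.comap π).Normal := inferInstance
    have h : H.normalCore.comap π ≤ M :=
      Subgroup.normal_le_normalCore.2 ((comap_mono H.normalCore_le).trans hcomap.le)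
    refine (eq_bot_iff_forall _).2 fun y hy => ?_
    obtain ⟨x, rfl⟩ := QuotientGroup.mk'_surjective M y
    exact (QuotientGroup.eq_one_iff x).2 (h hy)
  obtain ⟨Q, hle, hn, htwo, hreg⟩ := CfsgLib.Bender.Full.fullStatement (X ⧸ M) H hSE hcore hpair
  have hData : CfsgLib.SECrit.Shape.Data H Q := ⟨hSE, hcore, hpair, hle, hn, htwo, hreg⟩
  obtain ⟨τ₀, hsetup⟩ := hData.exists_setup
  haveI : FaithfulSMul (X ⧸ M) ((X ⧸ M) ⧸ H) := ⟨fun {g g'} h => by
    have h1 : g⁻¹ * g' ∈ H.normalCore := by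
      intro b
      have h2 := h ((b⁻¹ : X ⧸ M) : (X ⧸ M) ⧸ H)
      rw [MulAction.Quotient.smul_coe, MulAction.Quotient.smul_coe, smul_eq_mul, smul_eq_mul,
        QuotientGroup.eq, mul_inv_rev, inv_inv] at h2
      rwa [← mul_assoc, mul_assoc b] at h2
    rw [hcore, Subgroup.mem_bot, inv_mul_eq_one] at h1
    exact h1⟩
  obtain ⟨L, hL, hodd, hcases⟩ :=
    CfsgLib.Bender.Suzuki.classified (X ⧸ M) ((X ⧸ M) ⧸ H) _ τ₀ Q hsetup hData.pair_mul
  haveI := hL
  -- `S` lies in `L`
  have hSL : ∀ s : X, s ∈ SX → π s ∈ L := fun s hs => by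
    obtain ⟨k, hk⟩ := two _ hs
    refine (QuotientGroup.eq_one_iff _).1 (eq_one_of_odd_of_pow_two
      (hodd.of_dvd_nat (orderOf_dvd_natCard (QuotientGroup.mk' L (π s)))) (k := k) ?_)
    show (QuotientGroup.mk' L (π s)) ^ 2 ^ k = 1
    rw [← map_pow, ← map_pow, show s ^ 2 ^ k = 1 from Subtype.ext ((SubmonoidClass.coe_pow _ _).trans hk),
      map_one, map_one]
  set W := normalClosure (SX : Set X) with hW
  haveI hWn : W.Normal := normalClosure_normal
  have hWL : W ≤ L.comap π := normalClosure_le_normal hSL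
  have hWM : ∀ x ∈ M, ∀ w ∈ W, x * w = w * x := by
    have : W ≤ centralizer (M : Set X) := normalClosure_le_normal fun s hs =>
      mem_centralizer_iff.2 fun x hx => Subtype.ext (hMS x hx s hs).eq
    exact fun x hx w hw => mem_centralizer_iff.1 (this hw) x hx
  let ρ : W →* L := (π.comp W.subtype).codRestrict L fun w => hWL w.2
  have hρk : ρ.ker ≤ center W := fun w hw => mem_center_iff.2 fun v => Subtype.ext
    (hWM _ ((QuotientGroup.eq_one_iff _).1 (congrArg Subtype.val hw)) _ v.2).symm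
  let SW : Subgroup W := SX.subgroupOf W
  have hSW : SX ≤ W := subset_normalClosure
  obtain ⟨u', hu', hue⟩ : ∃ u' ∈ ⁅SW, SW⁆, ((u' : X) : G) = u := by
    have e : SW.map (X.subtype.comp W.subtype) = (S : Subgroup G) := by
      rw [← Subgroup.map_map, subgroupOf_map_subtype, inf_eq_left.2 hSW, hSXdef, subgroupOf_map_subtype,
        inf_eq_left.2 hSX]
    rw [← e, ← map_commutator] at hu
    exact hu
  have hu'k : ρ u' = 1 := Subtype.ext ((QuotientGroup.eq_one_iff _).2 (hDM _ (show ((u' : X) : G) ∈ D by rw [hue]; exact ⟨huS, huT⟩)))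
  have hu'1 : u' ≠ 1 := fun e => hu1 (by rw [← hue, e]; rfl)
  -- the image of `S` is a Sylow subgroup of `L`
  have hSW2 : IsPGroup 2 SW := ((S.2.comap_subtype (K := X))).comap_subtype
  let R : Sylow 2 W := hSW2.toSylow (by
    intro h
    refine S.not_dvd_index (h.trans ?_)
    exact (relIndex_dvd_index_of_le hSW).trans (relIndex_dvd_index_of_le hSX))
  -- the simple component
  have finish : ∀ (L₀ : Type) [Group L₀] (e : L ≃* L₀) [IsSimpleGroup L₀],
      Function.Surjective (e.toMonoidHom.comp ρ) ∧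
        ∀ (n : ℕ), Odd n → ¬ Cfsg.HasCyclicSchurMultiplier L₀ n := by
    intro L₀ _ e _
    haveI : IsSimpleGroup L := e.isSimpleGroup
    haveI : ρ.range.Normal := by
      refine ⟨fun y hy g => ?_⟩
      obtain ⟨w, rfl⟩ := hy
      obtain ⟨g', hg'⟩ := QuotientGroup.mk'_surjective M (g : X ⧸ M)
      exact ⟨⟨g' * w * g'⁻¹, hWn.conj_mem _ w.2 g'⟩, Subtype.ext (by
        show π (g' * w * g'⁻¹) = (g : X ⧸ M) * π w * (g : X ⧸ M)⁻¹
        rw [map_mul, map_mul, map_inv, hg'])⟩
    obtain ⟨s, hs⟩ := t.2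
    have hrne : ρ.range ≠ ⊥ := fun h0 => invol_ne_one ht (Subtype.ext (by
      rw [← hs]
      exact congrArg Subtype.val
        (DFunLike.congr_fun (MonoidHom.range_eq_bot_iff.1 h0) ⟨Subgroup.inclusion hSX s, hSW s.2⟩)))
    have hρs : Function.Surjective ρ :=
      MonoidHom.range_eq_top.1 (Subgroup.Normal.eq_bot_or_eq_top inferInstance |>.resolve_left hrne)
    set σ := e.toMonoidHom.comp ρ with hσ
    have hσs : Function.Surjective σ := e.surjective.comp hρs
    refine ⟨hσs, fun n hn hmult => ?_⟩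
    have hσk : σ.ker ≤ center W := fun w hw => hρk (e.map_eq_one_iff.1 hw)
    have hnab : commutator L₀ ≠ ⊥ := fun h => by
      have hcm : ∀ a b : L, a * b = b * a := fun a b => e.injective (by
        rw [map_mul, map_mul]
        exact commutatorElement_eq_one_iff_mul_comm.1
          (mem_bot.1 (h ▸ commutator_mem_commutator (mem_top (e a)) (mem_top (e b)))))
      have hmem : ∀ r : φ.range, (r : X ⧸ M) ∈ L := fun r => by
        obtain ⟨v, hv⟩ := r.2
        exact hv ▸ hSL _ v.2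
      have hr : ∀ r : φ.range, orderOf r = 2 → orderOf (⟨r, hmem r⟩ : L) = 2 := fun r hr => by
        rw [Subgroup.orderOf_mk, Subgroup.orderOf_coe, hr]
      haveI : (zpowers (⟨t, hmem t⟩ : L)).Normal :=
        ⟨fun a ha b => by rwa [hcm b a, mul_inv_cancel_right]⟩
      rcases (inferInstance : (zpowers (⟨t, hmem t⟩ : L)).Normal).eq_bot_or_eq_top with h1 | h1
      · exact invol_ne_one (hr t ht) (zpowers_eq_bot.1 h1)
      · exact htt (Subtype.ext (congrArg Subtype.val (invol_zpowers_unique (hr t ht) (hr t' ht')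
          (mem_zpowers _) (h1.ge (mem_top _))) :))
    haveI : Group.IsPerfect L₀ := ⟨(Subgroup.Normal.eq_bot_or_eq_top inferInstance).resolve_left hnab⟩
    set W' := commutator W
    have hsup : W' ⊔ center W = ⊤ := by
      refine top_le_iff.1 (le_trans ?_ (sup_le_sup_left hσk _))
      rw [← comap_map_eq, show W' = ⁅(⊤ : Subgroup W), ⊤⁆ from rfl, map_commutator, map_top_of_surjective _ hσs,
        ← _root_.commutator_def, Group.IsPerfect.commutator_eq_top, comap_top]
    have hperf : ⁅W', W'⁆ = W' := (CfsgLib.Schur.commutator_eq_of_sup_center hsup).symm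
    let σ' : W' →* L₀ := σ.comp W'.subtype
    have hstem : Cfsg.IsStemExtension σ' := by
      refine ⟨fun y => ?_, fun w hw => mem_center_iff.2 fun v => Subtype.ext
        (mem_center_iff.1 (hσk hw) v), fun w _ => ?_⟩
      · obtain ⟨w, hw⟩ := hσs y
        have hw' : w ∈ ((W' ⊔ center W : Subgroup W) : Set W) := by rw [hsup]; trivial
        rw [Subgroup.mul_normal] at hw'
        obtain ⟨a, ha, b, hb, rfl⟩ := hw'
        have hbc : σ b ∈ center L₀ := mem_center_iff.2 fun z => by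
          obtain ⟨z', rfl⟩ := hσs z
          rw [← map_mul, ← map_mul, mem_center_iff.1 hb z']
        have hb1 : σ b = 1 := by
          rcases (inferInstance : (center L₀).Normal).eq_bot_or_eq_top with h | h
          · exact mem_bot.1 (h ▸ hbc)
          · exfalso
            have h1 : commutator L₀ = ⊥ := (commutator_eq_bot_iff_center_eq_top _).2 h
            rw [Group.IsPerfect.commutator_eq_top] at h1
            exact top_ne_bot h1
        exact ⟨⟨a, ha⟩, by rw [← hw, map_mul, hb1, mul_one]; rfl⟩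
      · have h2 : ⁅W', W'⁆ = (commutator W').map W'.subtype := by
          rw [_root_.commutator_def, map_commutator, ← MonoidHom.range_eq_map, range_subtype]
        obtain ⟨v, hv, hve⟩ := (h2.symm.trans hperf).ge w.2
        rwa [← show v = w from Subtype.ext hve]
    have huW' : u' ∈ W' := commutator_mono le_top le_top hu'
    obtain ⟨k, hk⟩ := two u huS
    refine hu'1 (congrArg Subtype.val (eq_one_of_multiplier hn hmult σ' hstem (x := ⟨u', huW'⟩) (k := k) ?_ ?_))
    · show e (ρ u') = 1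
      rw [hu'k, map_one]
    · refine Subtype.ext (Subtype.ext (Subtype.ext ?_))
      simp only [SubmonoidClass.coe_pow, hue, hk, OneMemClass.coe_one]
  rcases hcases with ⟨F, iF, iF', ⟨n, hn2, hF⟩, ⟨e⟩⟩ | ⟨F, iF, iF', m, hm, hF, ⟨e⟩⟩ | ⟨F, iF, iF', n, hn2, hF, ⟨e⟩⟩
  · have h4 : 4 ≤ Fintype.card F := hF ▸ Nat.pow_le_pow_right two_pos hn2
    haveI := Matrix.ProjectiveSpecialLinearGroup.rank_two_simple (F := F)
      (by rw [Nat.card_eq_fintype_card]; omega)
    obtain ⟨hsurj, hno⟩ := finish _ e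
    rcases eq_or_lt_of_le hn2 with h2 | h2
    · -- four elements: a four group
      subst h2
      let P : Sylow 2 (Matrix.ProjectiveSpecialLinearGroup (Fin 2) F) := R.mapSurjective hsurj
      refine hnocyc (metaGen_of_card_four ?_)
      have hP : Nat.card (P : Subgroup (Matrix.ProjectiveSpecialLinearGroup (Fin 2) F)) = 2 ^ 2 :=
        (CfsgLib.PushUpTwo.psl_sylow_facts hF P).1
      have hmap : φ.range = ((SW.map ρ).map L.subtype) := by
        ext y
        constructor
        · rintro ⟨s, rfl⟩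
          exact ⟨_, ⟨⟨Subgroup.inclusion hSX s, hSW s.2⟩, s.2, rfl⟩, rfl⟩
        · rintro ⟨_, ⟨w, hw, rfl⟩, rfl⟩
          exact ⟨⟨((w : X) : G), hw⟩, rfl⟩
      rw [hmap, card_map_of_injective L.subtype_injective,
        Nat.card_congr ((SW.map ρ).equivMapOfInjective e.toMonoidHom e.injective).toEquiv, Subgroup.map_map]
      exact hP
    · refine hno (Nat.gcd 2 (2 ^ n - 1)) ?_ (Cfsg.Agent.S2086.result hF 2 le_rfl (fun _ => hF ▸ h4) ?_)
      · have hodd' : Odd (2 ^ n - 1) :=
          Nat.Even.sub_odd Nat.one_le_two_pow (Nat.even_pow.2 ⟨even_two, by omega⟩) odd_one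
        exact hodd'.of_dvd_nat (Nat.gcd_dvd_right _ _)
      · have h8 : 2 ^ 3 ≤ 2 ^ n := Nat.pow_le_pow_right two_pos h2
        simp only [Set.mem_insert_iff, Set.mem_singleton_iff, Prod.mk.injEq]
        rintro (h | h | h | h | h) <;> try omega
        obtain ⟨-, h⟩ := h
        exact (Nat.not_even_iff_odd.2 (by decide : Odd 9)) (h ▸ Nat.even_pow.2 ⟨even_two, by omega⟩)
  · obtain ⟨w⟩ := CfsgLib.Lie.Suz.exists_twEquiv (F := F) hm hF
    haveI := CfsgLib.Lie.Suz.simple (F := F) hm hF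
    obtain ⟨hsurj, -⟩ := finish _ (e.trans w.symm)
    set U := CfsgLib.Lie.Suz.U (m := m) hF
    have hU : IsPGroup 2 U := IsPGroup.of_card (n := 2 * (2 * m + 1)) (by
      rw [CfsgLib.Lie.Suz.card_U hF, hF, ← pow_mul, mul_comm])
    let US : Sylow 2 (Cfsg.Sz F m) := hU.toSylow (CfsgLib.Lie.Suz.U_index_not_dvd hm hF)
    obtain ⟨a, ha⟩ := MulAction.exists_smul_eq (Cfsg.Sz F m) (R.mapSurjective hsurj) US
    let p : W →* Cfsg.Sz F m := (MulAut.conj a).toMonoidHom.comp ((e.trans w.symm).toMonoidHom.comp ρ)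
    have hps : Function.Surjective p := (MulAut.conj a).surjective.comp hsurj
    have hpk : p.ker ≤ center W := fun x hx =>
      hρk ((e.trans w.symm).map_eq_one_iff.1 ((MulAut.conj a).map_eq_one_iff.1 hx))
    have hpU : ∀ x : W, p x ∈ U ↔ ∃ s ∈ SW, p s = p x := by
      intro x
      have hUeq : U = ((a • R.mapSurjective hsurj : Sylow 2 (Cfsg.Sz F m)) : Subgroup (Cfsg.Sz F m)) := by
        rw [ha]; rfl
      rw [hUeq, Sylow.coe_subgroup_smul, mem_smul_pointwise_iff_exists]
      constructor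
      · rintro ⟨y, ⟨s, hs, rfl⟩, hy⟩
        exact ⟨s, hs, hy⟩
      · rintro ⟨s, hs, hse⟩
        exact ⟨_, mem_map_of_mem _ hs, hse⟩
    refine hu'1 (suz_preimage_of_invol_central hm hF hps hpk (fun y hy hyy x hx => ?_) (z := u') ?_ ?_)
    · obtain ⟨s, hs, hse⟩ := (hpU x).1 hx
      obtain ⟨s', hs', hse'⟩ := (hpU y).1 hy
      have hkc : ∀ {a b : W}, p a = p b → ∃ k ∈ center W, b = a * k := fun {a b} h =>
        ⟨a⁻¹ * b, hpk (by rw [MonoidHom.mem_ker, map_mul, map_inv, h, inv_mul_cancel]),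
          (mul_inv_cancel_left _ _).symm⟩
      obtain ⟨k, hk, rfl⟩ := hkc hse
      obtain ⟨k', hk', rfl⟩ := hkc hse'
      have hcj : ∀ r : W, r ∈ SW → (s' * k') * r * (s' * k')⁻¹ ∈ SW := fun r hr => by
        have : (s' * k') * r * (s' * k')⁻¹ = s' * r * s'⁻¹ := by
          rw [mul_assoc s', ← mem_center_iff.1 hk' r, mul_inv_rev]; group
        rw [this]
        exact mul_mem (mul_mem hs' hr) (inv_mem hs')
      have hyS : (((s' * k' : W) : X) : G) ∈ (S : Subgroup G) := by
        refine CfsgLib.CentInt.mem_sylow_of_normalizer_invol ?_ (congrArg (fun w : W => ((w : X) : G)) hyy)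
        refine mem_normalizer_iff_map_conj_eq.2 (eq_of_le_of_card_ge ?_
          (card_map_of_injective (MulAut.conj _).injective).ge)
        rintro _ ⟨r, hr, rfl⟩
        exact hcj ⟨⟨r, hSX hr⟩, hSW hr⟩ hr
      refine Commute.mul_left ?_ (mem_center_iff.1 hk _).symm
      by_cases hy1 : s' * k' = 1
      · rw [hy1]; exact Commute.one_right _
      · exact Subtype.ext (Subtype.ext (invol_central hCI hna S hyS (invol_iff.2
          ⟨congrArg (fun w : W => ((w : X) : G)) hyy, fun h => hy1 (Subtype.ext (Subtype.ext h))⟩) _ hs))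
    · show MulAut.conj a ((e.trans w.symm) (ρ u')) = 1
      rw [hu'k, map_one, map_one]
    · exact commutator_mono (fun s hs => (hpU s).2 ⟨s, hs, rfl⟩) (fun s hs => (hpU s).2 ⟨s, hs, rfl⟩) hu'
  · have hq : ¬ ((3 : ℕ) = 3 ∧ 2 ^ n = 2) := fun h => by
      have := Nat.pow_le_pow_right two_pos hn2
      omega
    haveI := CfsgLib.Classical.psu_isSimple (n := 3) hF le_rfl hq
    obtain ⟨-, hno⟩ := finish _ e
    exact hno (Nat.gcd 3 (2 ^ n + 1)) ((show Odd 3 by decide).of_dvd_nat (Nat.gcd_dvd_left _ _))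
      (psu_three_multiplier hn2 hF)

/-- A simple group with central Sylow `2`-intersections and nonabelian Sylow `2`-subgroups. -/
theorem classify (hCI : CI G) [IsSimpleGroup G] (hna : ¬ IsMulCommutative G) (S : Sylow 2 G)
    (hS : ¬ IsMulCommutative (S : Subgroup G)) :
    Cfsg.Lie.IsoSuzuki G ∨
      ∃ (n : ℕ) (F : Type) (_ : Field F) (_ : Fintype F), 2 ≤ n ∧ Fintype.card F = 4 ^ n ∧
        Nonempty (G ≃* Cfsg.PSU 3 F (2 ^ n)) := by
  haveI : Fact (Nat.Prime 2) := ⟨Nat.prime_two⟩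
  set S' := ⁅(S : Subgroup G), (S : Subgroup G)⁆ with hS'
  have hS'le : S' ≤ (S : Subgroup G) := commutator_le_self _
  have hCle : ∀ w ∈ S', w ≠ 1 → centralizer ({w} : Set G) ≤ normalizer ((S : Subgroup G) : Set G) := by
    intro w hw hw1 c hc
    refine Sylow.smul_eq_iff_mem_normalizer.1 (by_contra fun he => hw1 (inter_commutator hCI hna S hS he ?_ hw))
    rw [Sylow.coe_subgroup_smul, mem_smul_pointwise_iff_exists]
    exact ⟨w, hS'le hw, show c * w * c⁻¹ = w by rw [mem_centralizer_singleton_iff.1 hc, mul_inv_cancel_right]⟩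
  obtain ⟨z, hzS', hz, hzc⟩ : ∃ z ∈ S', orderOf z = 2 ∧ ∀ s ∈ (S : Subgroup G), Commute s z := by
    have hne : S' ≠ ⊥ := fun e => hS (isMulCommutative_iff.2 fun a b => Subtype.ext
      (commutatorElement_eq_one_iff_mul_comm.1 (mem_bot.1 (e ▸ commutator_mem_commutator a.2 b.2))))
    obtain ⟨k, hk0, hk⟩ := (S.2.to_le hS'le).nontrivial_iff_card.1 ((nontrivial_iff_ne_bot _).2 hne)
    obtain ⟨c, hcm, hc⟩ := exists_invol_mem (H := S') (by rw [hk]; exact Nat.even_pow.2 ⟨even_two, hk0.ne'⟩)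
    exact ⟨c, hcm, hc, fun s hs => invol_central hCI hna S (hS'le hcm) hc s hs⟩
  have hmain : ∀ g : G, g * z * g⁻¹ ∈ (S : Subgroup G) → g ∈ normalizer ((S : Subgroup G) : Set G) := by
    intro g hg
    by_contra hgN
    have hne' : g⁻¹ • S ≠ S := fun e => hgN (by
      simpa using inv_mem (Sylow.smul_eq_iff_mem_normalizer.1 e))
    have hmem : z ∈ ((g⁻¹ • S : Sylow 2 G) : Subgroup G) := by
      rw [Sylow.coe_subgroup_smul, mem_smul_pointwise_iff_exists]
      exact ⟨_, hg, show g⁻¹ * (g * z * g⁻¹) * g⁻¹⁻¹ = z by group⟩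
    exact invol_ne_one hz (inter_commutator hCI hna S hS hne' hmem hzS')
  have hne : normalizer ((S : Subgroup G) : Set G) ≠ ⊤ := by
    intro e
    have hn : (S : Subgroup G).Normal := normalizer_eq_top_iff.1 e
    have he : (S : Subgroup G) = ⊤ := hn.eq_bot_or_eq_top.resolve_left fun h =>
      invol_ne_one hz (mem_bot.1 (h ▸ hS'le hzS'))
    have hp : IsPGroup 2 G := (S.2.to_le he.ge).of_equiv Subgroup.topEquiv
    haveI := hp.isNilpotent
    exact hna ⟨⟨IsSimpleGroup.comm_iff_isSolvable.2 inferInstance⟩⟩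
  have hconjS' : ∀ g ∈ normalizer ((S : Subgroup G) : Set G), g * z * g⁻¹ ∈ S' := by
    intro g hg
    have h := mem_map_of_mem (MulAut.conj g).toMonoidHom hzS'
    have hm : (S : Subgroup G).map (MulAut.conj g).toMonoidHom = S := mem_normalizer_iff_map_conj_eq.1 hg
    rw [hS', map_commutator, hm] at h
    exact h
  obtain ⟨H, hH⟩ := CfsgLib.SECrit.criterion_of_critThm CfsgLib.SECrit.critThm _ hne z hz
    (le_normalizer (hS'le hzS')) ⟨S, hS'le hzS', hzc⟩
    (fun g hg => hmain g (CfsgLib.CentInt.mem_sylow_of_normalizer_invol hg (invol_mul_self (invol_conj hz g))))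
    (fun g hg hne' => by
      have hgN : g * z * g⁻¹ ∈ normalizer ((S : Subgroup G) : Set G) :=
        hCle z hzS' (invol_ne_one hz) (mem_centralizer_singleton_iff.2 hg.symm.eq)
      have hg' := hmain g (CfsgLib.CentInt.mem_sylow_of_normalizer_invol hgN (invol_mul_self (invol_conj hz g)))
      exact hCle _ (mul_mem hzS' (hconjS' g hg')) fun e =>
        hne' ((eq_inv_of_mul_eq_one_left (by rw [← hg.eq]; exact e)).trans (invol_inv hz)))
  rcases CfsgLib.Bender.Suzuki.isoFamilies_of_se CfsgLib.Bender.Suzuki.classified hH with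
    ⟨F, iF, iF', ⟨n, hn, hF⟩, ⟨e⟩⟩ | h | ⟨F, iF, iF', n, hn, hF, g⟩
  · refine absurd (isMulCommutative_iff.2 fun a b => ?_) hS
    let P : Sylow 2 (Matrix.ProjectiveSpecialLinearGroup (Fin 2) F) :=
      S.mapSurjective (f := e.toMonoidHom) e.surjective
    exact Subtype.ext (e.injective (by
      show e ((a : G) * b) = e ((b : G) * a)
      rw [map_mul, map_mul]
      exact CfsgLib.SU.CentThree.psl_two_sylow_comm hF (by omega) P _ ⟨a, a.2, rfl⟩ _ ⟨b, b.2, rfl⟩))
  · exact Or.inl h
  · refine Or.inr ⟨n, F, iF, iF', hn, ?_, g⟩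
    rw [hF, ← pow_mul, show (4 : ℕ) = 2 ^ 2 from rfl, ← pow_mul, mul_comm n 2]

end CfsgLib.CentralNonab
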