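import Cfsg.Agent.S3183
import Cfsg.Agent.Lib.Invol.Basic
import Cfsg.Agent.Lib.Invol.CentralInter.Basic
import Cfsg.Agent.Lib.CIT.TI

/-!
# Central Sylow `2`-intersections in a simple group: the involutions are central
-/

set_option autoImplicit false
set_option linter.style.haveILetI false
set_option linter.unusedSectionVars false

open Subgroup

namespace CfsgLib.CentralNonab

open CfsgLib.Invol

universe u

/-- Intersections of distinct Sylow `2`-subgroups are central in some Sylow `2`-subgroup. -/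
def CI (G : Type u) [Group G] : Prop :=
  ∀ S T : Sylow 2 G, S ≠ T → ∃ U : Sylow 2 G,
    (S : Subgroup G) ⊓ (T : Subgroup G) ≤ (center ↥(U : Subgroup G)).map (U : Subgroup G).subtype

variable {G : Type u} [Group G] [Finite G] (hCI : CI G)
include hCI

theorem inter_comm {S T : Sylow 2 G} (hne : T ≠ S) {x : G} (hxS : x ∈ (S : Subgroup G))
    (hxT : x ∈ (T : Subgroup G)) : ∀ s ∈ (S : Subgroup G), s * x = x * s :=
  (CfsgLib.CentInt.mem_center_map.1 (((Cfsg.Agent.S3183.result hCI S).2 T hne ⟨hxS, hxT⟩).1)).2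

theorem sylow_eq {S T : Sylow 2 G} {x : G} (hxS : x ∈ (S : Subgroup G))
    (hxT : x ∈ (T : Subgroup G)) (hnc : ¬ ∀ s ∈ (S : Subgroup G), s * x = x * s) : T = S :=
  by_contra fun h => hnc (inter_comm hCI h hxS hxT)

theorem mem_of_comm {S : Sylow 2 G} {x y : G} (hxS : x ∈ (S : Subgroup G))
    (hnc : ¬ ∀ s ∈ (S : Subgroup G), s * x = x * s) (hy : y * y = 1) (hxy : y * x = x * y) :
    y ∈ (S : Subgroup G) := by
  refine CfsgLib.CentInt.mem_sylow_of_normalizer_invol (Sylow.smul_eq_iff_mem_normalizer.1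
    (sylow_eq hCI hxS ?_ hnc)) hy
  rw [Sylow.coe_subgroup_smul, mem_smul_pointwise_iff_exists]
  exact ⟨x, hxS, show y * x * y⁻¹ = x by rw [hxy, mul_inv_cancel_right]⟩

/-- In a simple group every involution of a Sylow `2`-subgroup is central in it. -/
theorem invol_central [IsSimpleGroup G] (hna : ¬ IsMulCommutative G) (S : Sylow 2 G) {x : G}
    (hxS : x ∈ (S : Subgroup G)) (hx : orderOf x = 2) : ∀ s ∈ (S : Subgroup G), s * x = x * s := by
  haveI : Fact (Nat.Prime 2) := ⟨Nat.prime_two⟩
  by_contra hnc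
  obtain ⟨z, hzS, hz, hzc⟩ :=
    CfsgLib.CIT.exists_central_invol (T := S) (CfsgLib.CIT.two_dvd_card_of_simple hna)
  have key : ∀ y, IsConj z y → y ∈ (S : Subgroup G) → ∀ s ∈ (S : Subgroup G), s * y = y * s := by
    intro y hy hyS
    obtain ⟨g, rfl⟩ := isConj_iff.1 hy
    by_cases e : g • S = S
    · intro s hs
      rw [← e, Sylow.coe_subgroup_smul, mem_smul_pointwise_iff_exists] at hs
      obtain ⟨t, ht, rfl⟩ := hs
      show g * t * g⁻¹ * (g * z * g⁻¹) = g * z * g⁻¹ * (g * t * g⁻¹)
      calc g * t * g⁻¹ * (g * z * g⁻¹) = g * (t * z) * g⁻¹ := by group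
        _ = g * (z * t) * g⁻¹ := by rw [hzc t ht]
        _ = g * z * g⁻¹ * (g * t * g⁻¹) := by group
    · refine inter_comm hCI e hyS ?_
      rw [Sylow.coe_subgroup_smul, mem_smul_pointwise_iff_exists]
      exact ⟨z, hzS, rfl⟩
  have hall : ∀ g : G, g * z * g⁻¹ ∈ (S : Subgroup G) := by
    intro g
    set y := g * z * g⁻¹ with hy
    have hzy : IsConj z y := isConj_iff.2 ⟨g, rfl⟩
    have hyo : orderOf y = 2 := invol_conj hz g
    by_contra hyS
    have hev : Even (orderOf (x * y)) := by
      rw [← Nat.not_odd_iff_even]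
      exact fun ho => hnc (key x (hzy.trans (isConj_of_odd hx hyo ho).symm) hxS)
    obtain ⟨d, hd, hy'o, hv⟩ := exists_conj_two_pow hx hyo
    set y' := d * y * d⁻¹ with hy'
    obtain ⟨Q, hQ⟩ := (two_group_of_pair hx hy'o hv).exists_le_sylow
    have hQS : Q = S := sylow_eq hCI hxS (hQ (subset_closure (by simp))) hnc
    have hy'S : y' ∈ (S : Subgroup G) := hQS ▸ hQ (subset_closure (by simp))
    have hy'c := key y' (hzy.trans (isConj_iff.2 ⟨d, rfl⟩)) hy'S
    have hsq : (x * y') ^ 2 = 1 := by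
      have hc : x * y' = y' * x := hy'c x hxS
      rw [pow_two]
      calc x * y' * (x * y') = x * (y' * x) * y' := by group
        _ = (x * x) * (y' * y') := by rw [← hc]; group
        _ = 1 := by rw [invol_mul_self hx, invol_mul_self hy'o, mul_one]
    have hv1 : (orderOf (x * y)).factorization 2 ≤ 1 := by
      have h := orderOf_dvd_of_pow_eq_one hsq
      rw [hv] at h
      exact (Nat.pow_dvd_pow_iff_le_right one_lt_two).1 (by simpa using h)
    obtain ⟨k, hk⟩ := hev.two_dvd
    have hk0 : k ≠ 0 := fun e => (orderOf_pos (x * y)).ne' (by rw [hk, e, mul_zero])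
    have hkodd : Odd k := by
      rw [← Nat.not_even_iff_odd]
      intro hke
      have h4 : 2 ^ 2 ∣ orderOf (x * y) := by
        obtain ⟨j, rfl⟩ := hke.two_dvd
        exact ⟨j, by rw [hk]; ring⟩
      have := (Nat.prime_two.pow_dvd_iff_le_factorization (orderOf_pos (x * y)).ne').1 h4
      omega
    have hev' : Even (orderOf (x * y)) := ⟨k, by omega⟩
    set w := (x * y) ^ (orderOf (x * y) / 2) with hw
    have hwo : orderOf w = 2 := orderOf_pow_half hev'
    have hwx : Commute w x := commute_pow_half (invol_conj_mul hx hyo) hev'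
    have hwy : Commute w y := commute_pow_half (invol_conj_mul' hx hyo) hev'
    have hwS : w ∈ (S : Subgroup G) := mem_of_comm hCI hxS hnc (invol_mul_self hwo) hwx.eq
    by_cases hwc : ∀ s ∈ (S : Subgroup G), s * w = w * s
    swap
    · exact hyS (mem_of_comm hCI hwS hwc (invol_mul_self hyo) hwy.eq.symm)
    have hxw : orderOf (x * w) = 2 := invol_iff.2 ⟨by
        rw [hwx.mul_mul_mul_comm, invol_mul_self hx, invol_mul_self hwo, one_mul],
      fun e => hnc (by rwa [eq_inv_of_mul_eq_one_left e, invol_inv hwo])⟩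
    have hodd : Odd (orderOf (x * w * y)) := by
      refine hkodd.of_dvd_nat (orderOf_dvd_of_pow_eq_one ?_)
      have e : x * w * y = (x * y) ^ (k + 1) := by
        rw [mul_assoc, hwy.eq, ← mul_assoc, pow_succ', hw, hk, Nat.mul_div_cancel_left _ two_pos]
      obtain ⟨j, hj⟩ := hkodd.add_one.two_dvd
      rw [e, ← pow_mul, hj, show 2 * j * k = orderOf (x * y) * j by rw [hk]; ring, pow_mul,
        pow_orderOf_eq_one, one_pow]
    have hcxw := key (x * w) (hzy.trans (isConj_of_odd hxw hyo hodd).symm) (mul_mem hxS hwS)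
    refine hnc fun s hs => mul_right_cancel (b := w) ?_
    rw [mul_assoc, hcxw s hs, mul_assoc x w s, ← hwc s hs, ← mul_assoc]
  have hn : normalClosure ({z} : Set G) ≤ (S : Subgroup G) := by
    refine (closure_le _).2 fun a ha => ?_
    obtain ⟨b, hb, hc⟩ := Group.mem_conjugatesOfSet_iff.1 ha
    rw [Set.mem_singleton_iff] at hb
    subst hb
    obtain ⟨g, rfl⟩ := isConj_iff.1 hc
    exact hall g
  rcases (normalClosure_normal (s := ({z} : Set G))).eq_bot_or_eq_top with h | h
  · exact invol_ne_one hz (mem_bot.1 (h ▸ subset_normalClosure (Set.mem_singleton z)))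
  · have hp : IsPGroup 2 G :=
      (S.2.to_le (h ▸ hn)).of_equiv Subgroup.topEquiv
    haveI := hp.isNilpotent
    exact hna ⟨⟨IsSimpleGroup.comm_iff_isSolvable.2 inferInstance⟩⟩

end CfsgLib.CentralNonab
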